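import Mathlib
import Cfsg.Agent.H616.FormBd
import Cfsg.Agent.H666.TIBasic
import Cfsg.Statements.S4749
import Cfsg.Prelude.Def_Classification2

/-!
# S4821: blocks of groups with TI Sylow `p`-subgroups -- definitions and goals (helper616)

Plan: `tools/plans/S4821.md`.
-/

set_option autoImplicit false

namespace Cfsg.Agent.H616.TI

open Subgroup Cfsg
open Cfsg.Agent.H666.TI (IsTI)

universe u

/-- The index of `P C_G(P)` in `C_G(z)`. -/
noncomputable def autIdx {G : Type u} [Group G] (P : Subgroup G) (z : G) : ℕ :=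
  (P ⊔ centralizer (P : Set G)).relIndex (centralizer ({z} : Set G))

/-- The criterion for `k(B) ≤ |P|` at the central element `z` of `P`. -/
def Crit (p : ℕ) {G : Type u} [Group G] (P : Subgroup G) (z : G) : Prop :=
  z ∈ P ∧ z ≠ 1 ∧ z ∈ centralizer (P : Set G) ∧
    ∀ g : G, g ∈ centralizer ({z} : Set G) → ¬ p ∣ orderOf g → g ∉ centralizer (P : Set G) →
      (autIdx P z + 1) * Nat.card ↥(P ⊓ centralizer ({g} : Set G)) ≤ Nat.card P

/-- Every `p'`-group `E` of automorphisms of `R` normalising `A ≤ E` satisfies the numerical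
criterion at all central elements of `R`. -/
def Good (p : ℕ) (R : Type u) [Group R] (A : Subgroup (MulAut R)) : Prop :=
  ∀ E : Subgroup (MulAut R), ¬ p ∣ Nat.card E → A ≤ E → (∀ e ∈ E, ∀ a ∈ A, e * a * e⁻¹ ∈ A) →
    ∀ z ∈ center R, z ≠ 1 → ∀ e ∈ E, e z = z → e ≠ 1 →
      (Nat.card {f : MulAut R // f ∈ E ∧ f z = z} + 1) * Nat.card {x : R // e x = x} ≤ Nat.card R

/-- The automorphisms of `R` induced by the elements of `A ⊓ N(R)`. -/
noncomputable def autOf {L : Type u} [Group L] (R A : Subgroup L) : Subgroup (MulAut R) :=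
  (A.subgroupOf (normalizer (R : Set L))).map R.normalizerMonoidHom

/-- `GoodL p L`: some Sylow `p`-subgroup `R` of `L` with some complement `A` in `N(R)` is good. -/
def GoodL (p : ℕ) (L : Type u) [Group L] : Prop :=
  ∃ (R : Sylow p L) (A : Subgroup L), A ≤ normalizer ((R : Subgroup L) : Set L) ∧
    ¬ p ∣ Nat.card A ∧ (R : Subgroup L) ⊔ A = normalizer ((R : Subgroup L) : Set L) ∧
    Good p ↥(R : Subgroup L) (autOf (R : Subgroup L) A)

/-! ## Goals: blocks -/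

/-- FORM: blocks of groups with normal Sylow subgroup. -/
def GoalForm : Prop := ∀ (H : Type u) [Group H] [Finite H] (p : ℕ) [Fact p.Prime]
  (M : Ideal AlgInt), IsPModular p M → ∀ (P : Sylow p H), (P : Subgroup H).Normal →
  (∀ g : H, ¬ p ∣ orderOf g → g ∉ centralizer ((P : Subgroup H) : Set H) →
    (((P : Subgroup H) ⊔ centralizer ((P : Subgroup H) : Set H)).index + 1) *
      Nat.card ↥((P : Subgroup H) ⊓ centralizer ({g} : Set H)) ≤ Nat.card (P : Subgroup H)) →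
  ∀ b : Set (IrrCharacter H), IsPBlock M b → Cfsg.Agent.H616.Form.FormBd p b (Nat.card (P : Subgroup H))

/-- MAINCRIT: `k(B) ≤ |P|` from the criterion. -/
def GoalCrit : Prop := ∀ (G : Type u) [Group G] [Finite G] (p : ℕ) [Fact p.Prime]
  (M : Ideal AlgInt), IsPModular p M → ∀ (P : Sylow p G) (z : G), Crit p (P : Subgroup G) z →
  centralizer ({z} : Set G) ≤ normalizer ((P : Subgroup G) : Set G) →
  ∀ B : Set (IrrCharacter G), IsPBlock M B → IsDefectGroup p M B (P : Subgroup G) →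
    Nat.card B ≤ Nat.card (P : Subgroup G)

/-- KAP: the class function `κ` for the action of a `p'`-group on an abelian `p`-group. -/
def GoalKap : Prop := ∀ (p : ℕ) [Fact p.Prime] (K : Type u) [Group K] [Finite K]
  (V : Type u) [CommGroup V] [Finite V], IsPGroup p V → ¬ p ∣ Nat.card K →
  ∀ φ : K →* MulAut V, ∃ (κ : K → ℂ) (θ : ZMod p → K → ℂ),
    (∀ k, IsGeneralizedCharacter K (θ k)) ∧
    (∀ g, κ g = ∑ k : ZMod p, (ZMod.stdAddChar k : ℂ) * θ k g) ∧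
    (∀ g, ‖κ g‖ ^ 2 * (Nat.card {v : V // φ g v = v} : ℝ) = (Nat.card V : ℝ)) ∧
    (∀ g, φ g = 1 → κ g = 1) ∧
    (∀ g, φ g ≠ 1 → ∃ y : ℂ, IsIntegral ℤ y ∧ κ g = (1 - (ZMod.stdAddChar (1 : ZMod p) : ℂ)) * y)

/-- KZERO: the bound for the characters of height zero. -/
def GoalZero : Prop := ∀ (G : Type u) [Group G] [Finite G] (p : ℕ) [Fact p.Prime]
  (M : Ideal AlgInt), IsPModular p M → IsTI p G → ∀ P : Sylow p G,
  ∀ B : Set (IrrCharacter G), IsPBlock M B → IsDefectGroup p M B (P : Subgroup G) →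
    Nat.card {χ : IrrCharacter G // χ ∈ B ∧ blockHeight p B (χ : G → ℂ) = 0} ≤
      (commutator ↥(P : Subgroup G)).index

/-! ## Goals: groups -/

/-- CYC: cyclic or quaternion Sylow subgroups. -/
def GoalCyc : Prop := ∀ (G : Type u) [Group G] [Finite G] (p : ℕ) [Fact p.Prime], IsTI p G →
  ∀ P : Sylow p G, (P : Subgroup G) ≠ ⊥ →
  (¬ ∃ V : Subgroup G, V ≤ P ∧ IsMulCommutative V ∧ ¬ IsCyclic V) →
    ∃ z : G, Crit p (P : Subgroup G) z

/-- QUOT: reduction to `O_{p'}(G) = 1`. -/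
def GoalQuot : Prop := ∀ (G : Type u) [Group G] [Finite G] (p : ℕ) [Fact p.Prime], IsTI p G →
  ∀ P : Sylow p G, ¬ (P : Subgroup G).Normal →
  (∃ V : Subgroup G, V ≤ P ∧ IsMulCommutative V ∧ ¬ IsCyclic V) →
    ∃ (N : Subgroup G) (_ : N.Normal), IsTI p (G ⧸ N) ∧
      (∀ Q : Subgroup (G ⧸ N), Q.Normal → ¬ p ∣ Nat.card Q → Q = ⊥) ∧
      (∀ Q : Subgroup (G ⧸ N), Q.Normal → IsPGroup p Q → Q = ⊥) ∧
      p ∣ Nat.card (G ⧸ N) ∧
      ((∃ (Q : Sylow p (G ⧸ N)) (z : G ⧸ N), Crit p (Q : Subgroup (G ⧸ N)) z) →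
        ∃ (Q : Sylow p G) (z : G), Crit p (Q : Subgroup G) z)

/-- SOCLE: the simple normal subgroup. -/
def GoalSocle : Prop := ∀ (G : Type u) [Group G] [Finite G] (p : ℕ) [Fact p.Prime], IsTI p G →
  (∀ Q : Subgroup G, Q.Normal → ¬ p ∣ Nat.card Q → Q = ⊥) →
  (∀ Q : Subgroup G, Q.Normal → IsPGroup p Q → Q = ⊥) → p ∣ Nat.card G →
    ∃ L : Subgroup G, L.Normal ∧ IsSimpleGroup L ∧ ¬ IsMulCommutative L ∧
      centralizer (L : Set G) = ⊥ ∧ p ∣ Nat.card L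

/-- ZST: centralizers of `R = P ⊓ L` in `P` (by the Z*-theorem S1938). -/
def GoalZst : Prop := ∀ (G : Type u) [Group G] [Finite G] (p : ℕ) [Fact p.Prime], IsTI p G →
  ∀ L : Subgroup G, L.Normal → IsSimpleGroup L → ¬ IsMulCommutative L →
    centralizer (L : Set G) = ⊥ → p ∣ Nat.card L → ∀ P : Sylow p G,
      (P : Subgroup G) ⊓ centralizer (((P : Subgroup G) ⊓ L : Subgroup G) : Set G) ≤ L

/-- LOC: the criterion for `G` from `GoodL` for `L`. -/
def GoalLoc : Prop := ∀ (G : Type u) [Group G] [Finite G] (p : ℕ) [Fact p.Prime], IsTI p G →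
  ∀ L : Subgroup G, L.Normal → IsSimpleGroup L → ¬ IsMulCommutative L →
    centralizer (L : Set G) = ⊥ → p ∣ Nat.card L →
    (∀ P : Sylow p G,
      (P : Subgroup G) ⊓ centralizer (((P : Subgroup G) ⊓ L : Subgroup G) : Set G) ≤ L) →
    GoodL p L → ∃ (P : Sylow p G) (z : G), Crit p (P : Subgroup G) z

/-- LIST: `GoodL` for all simple groups with TI Sylow subgroups. -/
def GoalList : Prop := ∀ (L : Type u) [Group L] [Finite L] [IsSimpleGroup L] (p : ℕ)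
  [Fact p.Prime], ¬ IsMulCommutative L → p ∣ Nat.card L → IsTI p L → GoodL p L

/-! ## Goals: the families -/

/-- PP: small or cyclic `R`. -/
def GoalPP : Prop := ∀ (p : ℕ) [Fact p.Prime] (R : Type u) [Group R] [Finite R]
  (A : Subgroup (MulAut R)), IsPGroup p R →
  (IsCyclic R ∨ Nat.card R = p ^ 2 ∨ (Nat.card R = p ^ 3 ∧ ¬ IsMulCommutative R)) → Good p R A

/-- AL: an abelian irreducible normal subgroup `A` of `E` on an elementary abelian group `U`. -/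
def GoalAL : Prop := ∀ (p : ℕ) [Fact p.Prime] (U : Type u) [CommGroup U] [Finite U],
  (∀ x : U, x ^ p = 1) → ∀ A E : Subgroup (MulAut U), ¬ p ∣ Nat.card E → A ≤ E →
  (∀ e ∈ E, ∀ a ∈ A, e * a * e⁻¹ ∈ A) → (∀ a ∈ A, ∀ b ∈ A, a * b = b * a) →
  (∀ W : Subgroup U, (∀ a ∈ A, ∀ x ∈ W, a x ∈ W) → W = ⊥ ∨ W = ⊤) →
  ∀ z : U, z ≠ 1 → ∀ e ∈ E, e z = z → e ≠ 1 →
    (Nat.card {f : MulAut U // f ∈ E ∧ f z = z} + 1) * Nat.card {x : U // e x = x} ≤ Nat.card U

/-- REG: `A` abelian, regular on the centre and transitive on the Frattini quotient. -/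
def GoalReg : Prop := ∀ (p : ℕ) [Fact p.Prime] (R : Type u) [Group R] [Finite R],
  IsPGroup p R → ∀ A : Subgroup (MulAut R), (∀ a ∈ A, ∀ b ∈ A, a * b = b * a) →
  (∀ z ∈ center R, z ≠ 1 → ∀ w ∈ center R, w ≠ 1 → ∃ a ∈ A, a z = w) →
  (∀ z ∈ center R, z ≠ 1 → ∀ a ∈ A, a z = z → a = 1) →
  (∀ x, x ∉ frattini R → ∀ y, y ∉ frattini R → ∃ a ∈ A, a x * y⁻¹ ∈ frattini R) → Good p R A

/-- U3: the unitary case, abstractly. -/
def GoalU3 : Prop := ∀ (p : ℕ) [Fact p.Prime] (q : ℕ), 2 < q → ∀ (F : Type) [Field F] [Fintype F],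
  Fintype.card F = q ^ 2 → CharP F p → ∀ (R : Type u) [Group R] [Finite R], IsPGroup p R →
  ∀ (π : R → F) (τ : R → F), (∀ x y, π (x * y) = π x + π y) → Function.Surjective π →
  (∀ x, π x = 0 ↔ x ∈ center R) → Nat.card (center R) = q →
  (∀ x ∈ center R, ∀ y ∈ center R, τ (x * y) = τ x + τ y) →
  (∀ x ∈ center R, τ x = 0 → x = 1) → (∀ x ∈ center R, τ x ^ q = - τ x) →
  (∀ x y, τ (x * y * x⁻¹ * y⁻¹) = π x * π y ^ q - π x ^ q * π y) →
  ∀ A : Subgroup (MulAut R), (∀ a ∈ A, ∃ t : F, ∀ x, π (a x) = t * π x) →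
  q ^ 2 - 1 ≤ 3 * Nat.card A → Good p R A

/-- TILIST: the simple groups with TI Sylow `p`-subgroups in explicit form. -/
def GoalTIList : Prop := ∀ (L : Type u) [Group L] [Finite L] [IsSimpleGroup L] (p : ℕ)
  [Fact p.Prime], ¬ IsMulCommutative L → IsTI p L →
    (∃ (F : Type) (_ : Field F) (_ : Fintype F) (n : ℕ), 2 ≤ n ∧ Fintype.card F = p ^ n ∧
      Nonempty (L ≃* Matrix.ProjectiveSpecialLinearGroup (Fin 2) F)) ∨
    (∃ (F : Type) (_ : Field F) (_ : Fintype F) (n : ℕ), 1 ≤ n ∧ Fintype.card F = (p ^ n) ^ 2 ∧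
      Nonempty (L ≃* Cfsg.PSU 3 F (p ^ n))) ∨
    (p = 2 ∧ Lie.IsoSuzuki L) ∨ (p = 3 ∧ Lie.IsoRee L) ∨
    ∀ R : Sylow p L, IsCyclic ↥(R : Subgroup L) ∨ Nat.card (R : Subgroup L) = p ^ 2 ∨
      (Nat.card (R : Subgroup L) = p ^ 3 ∧ ¬ IsMulCommutative (R : Subgroup L))

/-- the concrete rows -/
def GoalPSL : Prop := ∀ (F : Type) [Field F] [Fintype F] (p : ℕ) [Fact p.Prime] (n : ℕ), 2 ≤ n →
  Fintype.card F = p ^ n → GoodL p (Matrix.ProjectiveSpecialLinearGroup (Fin 2) F)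

def GoalPSU : Prop := ∀ (F : Type) [Field F] [Fintype F] (p : ℕ) [Fact p.Prime] (n : ℕ), 1 ≤ n →
  Fintype.card F = (p ^ n) ^ 2 → GoodL p (Cfsg.PSU 3 F (p ^ n))

def GoalSz : Prop := ∀ (L : Type u) [Group L], Lie.IsoSuzuki L → GoodL 2 L

def GoalRee : Prop := ∀ (L : Type u) [Group L], Lie.IsoRee L → GoodL 3 L

/-- `GoodL` is invariant under isomorphisms. -/
def GoalIso : Prop := ∀ (p : ℕ) (L : Type u) [Group L] (L' : Type) [Group L'], Nonempty (L ≃* L') →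
  GoodL p L' → GoodL p L

end Cfsg.Agent.H616.TI
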