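import Mathlib
import Cfsg.Agent.H616.TI.Defs
import Cfsg.Agent.H666.Link
import Cfsg.Agent.Blocks.Basic

/-!
# S4821: assembly from the goals (helper616)
-/

set_option autoImplicit false

namespace Cfsg.Agent.H616.TI

open Subgroup Cfsg
open Cfsg.Agent.H666.TI (IsTI)
open scoped Pointwise

universe u

/-- A complement of a Sylow subgroup in its normalizer. -/
theorem exists_complement {L : Type u} [Group L] [Finite L] {p : ℕ} [Fact p.Prime] (R : Sylow p L) :
    ∃ A : Subgroup L, A ≤ normalizer ((R : Subgroup L) : Set L) ∧ ¬ p ∣ Nat.card A ∧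
      (R : Subgroup L) ⊔ A = normalizer ((R : Subgroup L) : Set L) := by
  set N : Subgroup L := normalizer ((R : Subgroup L) : Set L) with hN
  have hRN : (R : Subgroup L) ≤ N := le_normalizer
  have hnorm : ((R.subtype hRN : Sylow p N) : Subgroup N).Normal := by
    rw [Sylow.coe_subtype]
    exact normal_in_normalizer
  have hidx : ¬ p ∣ ((R.subtype hRN : Sylow p N) : Subgroup N).index :=
    (R.subtype hRN).not_dvd_index
  have hcop : Nat.Coprime (Nat.card ((R.subtype hRN : Sylow p N) : Subgroup N))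
      ((R.subtype hRN : Sylow p N) : Subgroup N).index := by
    obtain ⟨k, hk⟩ := IsPGroup.iff_card.1 (R.subtype hRN).isPGroup'
    rw [hk]
    exact Nat.Coprime.pow_left _ (((Fact.out : p.Prime).coprime_iff_not_dvd).2 hidx)
  obtain ⟨A, hA⟩ := exists_right_complement'_of_coprime hcop
  refine ⟨A.map N.subtype, ?_, ?_, ?_⟩
  · exact (map_le_range _ _).trans (by rw [range_subtype])
  · rw [card_map_of_injective N.subtype_injective]
    rw [hA.symm.index_eq_card] at hidx
    exact hidx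
  · have h1 := hA.sup_eq_top
    have h2 := congrArg (Subgroup.map N.subtype) h1
    rw [Subgroup.map_sup, ← MonoidHom.range_eq_map, range_subtype, Sylow.coe_subtype, subgroupOf_map_subtype,
      inf_of_le_left hRN] at h2
    exact h2

theorem list_of (hT : GoalTIList.{u}) (hPP : GoalPP.{u}) (hPSL : GoalPSL) (hPSU : GoalPSU)
    (hSz : GoalSz.{u}) (hRee : GoalRee.{u}) (hIso : GoalIso.{u}) : GoalList.{u} := by
  intro L _ _ _ p _ hna hpL hTI
  rcases hT L p hna hTI with ⟨F, i1, i2, n, hn, hF, he⟩ | ⟨F, i1, i2, n, hn, hF, he⟩ | ⟨rfl, h⟩ |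
    ⟨rfl, h⟩ | h
  · exact hIso p L _ he (hPSL F p n hn hF)
  · exact hIso p L _ he (hPSU F p n hn hF)
  · exact hSz L h
  · exact hRee L h
  · obtain ⟨R⟩ : Nonempty (Sylow p L) := inferInstance
    obtain ⟨A, h1, h2, h3⟩ := exists_complement R
    exact ⟨R, A, h1, h2, h3, hPP p _ _ R.isPGroup' (h R)⟩

theorem exists_crit (hCyc : GoalCyc.{u}) (hQuot : GoalQuot.{u}) (hSoc : GoalSocle.{u})
    (hZst : GoalZst.{u}) (hLoc : GoalLoc.{u}) (hList : GoalList.{u}) {G : Type u} [Group G]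
    [Finite G] {p : ℕ} [Fact p.Prime] (hTI : IsTI p G) (P : Sylow p G)
    (hP : ¬ (P : Subgroup G).Normal) : ∃ (Q : Sylow p G) (z : G), Crit p (Q : Subgroup G) z := by
  have hP1 : (P : Subgroup G) ≠ ⊥ := by
    intro h
    apply hP
    rw [h]
    infer_instance
  by_cases hV : ∃ V : Subgroup G, V ≤ P ∧ IsMulCommutative V ∧ ¬ IsCyclic V
  · obtain ⟨N, hN, h1, h2, h3, h4, h5⟩ := hQuot G p hTI P hP hV
    apply h5
    obtain ⟨L, hL1, hL2, hL3, hL4, hL5⟩ := hSoc (G ⧸ N) p h1 h2 h3 h4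
    have hL6 : IsTI p L := h1.subgroup L
    exact hLoc (G ⧸ N) p h1 L hL1 hL2 hL3 hL4 hL5 (hZst (G ⧸ N) p h1 L hL1 hL2 hL3 hL4 hL5)
      (hList L p hL3 hL5 hL6)
  · obtain ⟨z, hz⟩ := hCyc G p hTI P hP1 hV
    exact ⟨P, z, hz⟩

/-- The centralizer of a nontrivial element of a TI Sylow subgroup normalizes it. -/
theorem centralizer_le {G : Type u} [Group G] [Finite G] {p : ℕ} [Fact p.Prime] (hTI : IsTI p G)
    (P : Sylow p G) {z : G} (hz : z ∈ (P : Subgroup G)) (hz1 : z ≠ 1) :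
    centralizer ({z} : Set G) ≤ normalizer ((P : Subgroup G) : Set G) := by
  intro g hg
  rw [mem_centralizer_singleton_iff] at hg
  refine Sylow.smul_eq_iff_mem_normalizer.1 ?_
  refine hTI.sylow_eq (x := z) ?_ hz hz1
  show z ∈ ((g • P : Sylow p G) : Subgroup G)
  rw [Sylow.coe_subgroup_smul]
  refine ⟨z, hz, ?_⟩
  show g * z * g⁻¹ = z
  rw [hg, mul_inv_cancel_right]

/-- **S4821** from the goals. -/
theorem main_of (hCrit : GoalCrit.{u}) (hZero : GoalZero.{u}) (hCyc : GoalCyc.{u})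
    (hQuot : GoalQuot.{u}) (hSoc : GoalSocle.{u}) (hZst : GoalZst.{u}) (hLoc : GoalLoc.{u})
    (hList : GoalList.{u}) {G : Type u} [Group G] [Finite G] (p : ℕ) [Fact p.Prime]
    (M : Ideal Cfsg.AlgInt) (hM : Cfsg.IsPModular p M) (P : Sylow p G)
    (hnn : ¬ (P : Subgroup G).Normal)
    (hTI : ∀ g : G, g ∉ Subgroup.normalizer ((P : Subgroup G) : Set G) →
      (P : Subgroup G) ⊓ (MulAut.conj g • (P : Subgroup G)) = ⊥)
    (B : Set (Cfsg.IrrCharacter G)) (hB : Cfsg.IsPBlock M B)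
    (hBP : Cfsg.IsDefectGroup p M B P) :
    Nat.card B ≤ Nat.card (P : Subgroup G) ∧
      Nat.card {χ : Cfsg.IrrCharacter G // χ ∈ B ∧ Cfsg.blockHeight p B (χ : G → ℂ) = 0} ≤
        (commutator ↥(P : Subgroup G)).index := by
  have hT := Cfsg.Agent.H666.Link.isTI_of_conj P hTI
  refine ⟨?_, hZero G p M hM hT P B hB hBP⟩
  obtain ⟨Q, z, hz⟩ := exists_crit hCyc hQuot hSoc hZst hLoc hList hT P hnn
  obtain ⟨g, hg⟩ := MulAction.exists_smul_eq G P Q
  have hBQ : IsDefectGroup p M B (Q : Subgroup G) := by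
    have h1 := Cfsg.Agent.Blocks.Basic.isDefectGroup_conj hBP g
    have h2 : (Q : Subgroup G) = (P : Subgroup G).map (MulAut.conj g).toMonoidHom := by
      rw [← hg, Sylow.coe_subgroup_smul]
      rfl
    rw [h2]
    exact h1
  have h1 := hCrit G p M hM Q z hz (centralizer_le hT Q hz.1 hz.2.1) B hB hBQ
  refine h1.trans (le_of_eq ?_)
  rw [Sylow.card_eq_multiplicity, Sylow.card_eq_multiplicity]

end Cfsg.Agent.H616.TI
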